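import Groth.Prelude.Def_W4c5qllcourbesmultMultCrv
import Mathlib.Algebra.Polynomial.Coeff
import Mathlib.Algebra.Polynomial.Div
import Mathlib.RingTheory.Polynomial.Basic
import Mathlib.Algebra.Module.Torsion.Basic
import Mathlib.LinearAlgebra.FreeModule.PID
import Mathlib.RingTheory.Finiteness.Defs
import Mathlib.RingTheory.Noetherian.Basic
import Mathlib.Algebra.Module.Projective
import Mathlib.LinearAlgebra.Dual.Lemmas
import Mathlib.RingTheory.Ideal.Quotient.Noetherian

/-! `A = R[X]/(X^n)` as a Frobenius algebra over `R`. -/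

namespace Groth.Agent.MultCrvLib

open Polynomial MultCrv

variable (R : Type*) [CommRing R] (n : ℕ)

/-- The coefficient of `z^(n-1)`. -/
noncomputable def top : Rn R n →ₗ[R] R :=
  if hn : n = 0 then 0 else
  ((Ideal.span {(X : R[X]) ^ n}).restrictScalars R).liftQ (Polynomial.lcoeff R (n - 1)) (fun q hq => by
    rw [Submodule.restrictScalars_mem, Ideal.mem_span_singleton] at hq
    rw [LinearMap.mem_ker, Polynomial.lcoeff_apply]
    exact Polynomial.X_pow_dvd_iff.1 hq _ (by omega)) ∘ₗ
    (Submodule.Quotient.restrictScalarsEquiv R (Ideal.span {(X : R[X]) ^ n})).symm.toLinearMap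

theorem top_mk (hn : 1 ≤ n) (q : R[X]) : top R n (Ideal.Quotient.mk _ q) = q.coeff (n - 1) := by
  rw [top, dif_neg (by omega)]
  rfl

theorem z_pow (m : ℕ) : z R n ^ m = Ideal.Quotient.mk (Ideal.span {(X : R[X]) ^ n}) (X ^ m) := (map_pow _ _ _).symm

theorem z_pow_eq_zero {m : ℕ} (hm : n ≤ m) : z R n ^ m = 0 := by
  rw [z_pow, Ideal.Quotient.eq_zero_iff_mem, Ideal.mem_span_singleton]
  exact pow_dvd_pow _ hm

theorem top_z_pow (hn : 1 ≤ n) (m : ℕ) : top R n (z R n ^ m) = if m = n - 1 then 1 else 0 := by
  rw [z_pow, top_mk R n hn, Polynomial.coeff_X_pow]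
  simp [eq_comm]

theorem mk_C (r : R) : Ideal.Quotient.mk (Ideal.span {(X : R[X]) ^ n}) (C r) = algebraMap R (Rn R n) r := rfl

@[elab_as_elim]
theorem Rn_induction {motive : Rn R n → Prop} (monomial : ∀ (r : R) (m : ℕ), motive (r • z R n ^ m))
    (add : ∀ a b, motive a → motive b → motive (a + b)) (a : Rn R n) : motive a := by
  obtain ⟨q, rfl⟩ := Ideal.Quotient.mk_surjective a
  induction q using Polynomial.induction_on' with
  | add p q hp hq => rw [map_add]; exact add _ _ hp hq
  | monomial m r =>
    have := monomial r m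
    rwa [← Polynomial.C_mul_X_pow_eq_monomial, map_mul, mk_C, ← z_pow, ← Algebra.smul_def]

theorem eq_sum_top (hn : 1 ≤ n) (a : Rn R n) :
    a = ∑ i ∈ Finset.range n, top R n (z R n ^ i * a) • z R n ^ (n - 1 - i) := by
  induction a using Rn_induction with
  | add a b ha hb =>
    conv_lhs => rw [ha, hb]
    simp only [mul_add, map_add, add_smul, Finset.sum_add_distrib]
  | monomial r m =>
    simp only [mul_smul_comm, map_smul, ← pow_add, top_z_pow R n hn, smul_eq_mul]
    by_cases hm : m < n
    · rw [Finset.sum_eq_single (n - 1 - m)]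
      · rw [if_pos (by omega), mul_one, show n - 1 - (n - 1 - m) = m by omega]
      · intro i hi hne
        rw [if_neg (by simp only [Finset.mem_range] at hi; omega), mul_zero, zero_smul]
      · intro h
        simp only [Finset.mem_range] at h
        omega
    · rw [z_pow_eq_zero R n (not_lt.1 hm), smul_zero, Finset.sum_eq_zero]
      intro i _
      rw [if_neg (by omega), mul_zero, zero_smul]

section Modules

variable {R n}
variable {M N : Type*} [AddCommGroup M] [Module (Rn R n) M] [Module R M] [IsScalarTower R (Rn R n) M]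
variable [AddCommGroup N] [Module (Rn R n) N] [Module R N] [IsScalarTower R (Rn R n) N]

/-- An `R`-linear map commuting with `z` is `A`-linear. -/
def linearOfCommZ (f : M →ₗ[R] N) (hz : ∀ x, f (z R n • x) = z R n • f x) : M →ₗ[Rn R n] N where
  toFun := f
  map_add' := map_add f
  map_smul' a x := by
    induction a using Rn_induction with
    | add a b ha hb => simp only [RingHom.id_apply] at *; rw [add_smul, map_add, ha, hb, add_smul]
    | monomial r m =>
      simp only [RingHom.id_apply, smul_assoc, map_smul]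
      congr 1
      induction m generalizing x with
      | zero => simp
      | succ m ih => rw [pow_succ, mul_smul, mul_smul, ih, hz]

omit [Module R M] [IsScalarTower R (Rn R n) M] in
theorem z_pow_smul_eq_zero {m : ℕ} (hm : n ≤ m) (x : M) : z R n ^ m • x = 0 := by
  rw [z_pow_eq_zero R n hm]
  exact zero_smul (Rn R n) x

/-- The `R`-dual gives forms over `A`. -/
noncomputable def toADual (hn : 1 ≤ n) (ψ : M →ₗ[R] R) : M →ₗ[Rn R n] Rn R n :=
  linearOfCommZ
    { toFun := fun x => ∑ i ∈ Finset.range n, ψ (z R n ^ i • x) • z R n ^ (n - 1 - i)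
      map_add' := fun x y => by simp only [smul_add, map_add, add_smul, Finset.sum_add_distrib]
      map_smul' := fun r x => by
        simp only [RingHom.id_apply, Finset.smul_sum]
        exact Finset.sum_congr rfl fun i _ => by rw [smul_comm, map_smul, smul_assoc] }
    (fun x => by
      simp only [LinearMap.coe_mk, AddHom.coe_mk, Finset.smul_sum, smul_smul]
      have h1 := Finset.sum_range_succ' (fun i => ψ (z R n ^ i • x) • z R n ^ (n - i)) n
      have h2 := Finset.sum_range_succ (fun i => ψ (z R n ^ i • x) • z R n ^ (n - i)) n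
      have h3 : z R n ^ n • x = 0 := z_pow_smul_eq_zero le_rfl x
      rw [h2] at h1
      simp only [h3, map_zero, zero_smul, add_zero, Nat.sub_zero, pow_zero, one_smul] at h1
      rw [z_pow_eq_zero R n le_rfl, smul_zero, add_zero] at h1
      refine Eq.trans ?_ (h1.symm.trans ?_)
      · refine Finset.sum_congr rfl fun i _ => ?_
        rw [← pow_succ, show n - (i + 1) = n - 1 - i by omega]
      · refine Finset.sum_congr rfl fun i hi => ?_
        rw [smul_comm (z R n) (ψ _), smul_eq_mul, ← pow_succ',
          show n - 1 - i + 1 = n - i by simp only [Finset.mem_range] at hi; omega])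

theorem toADual_apply (hn : 1 ≤ n) (ψ : M →ₗ[R] R) (x : M) :
    toADual hn ψ x = ∑ i ∈ Finset.range n, ψ (z R n ^ i • x) • z R n ^ (n - 1 - i) := rfl

theorem top_toADual (hn : 1 ≤ n) (ψ : M →ₗ[R] R) (x : M) : top R n (toADual hn ψ x) = ψ x := by
  rw [toADual_apply, map_sum, Finset.sum_eq_single 0]
  · rw [map_smul, top_z_pow R n hn, if_pos (by omega), smul_eq_mul, mul_one, pow_zero, one_smul]
  · intro i hi hne
    rw [map_smul, top_z_pow R n hn, if_neg (by simp only [Finset.mem_range] at hi; omega), smul_zero]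
  · intro h; simp only [Finset.mem_range] at h; omega

/-- `Hom_A(M, A) ≅ Hom_R(M, R)`. -/
noncomputable def dualEquiv (hn : 1 ≤ n) : (M →ₗ[Rn R n] Rn R n) ≃ (M →ₗ[R] R) where
  toFun φ := (top R n).comp (φ.restrictScalars R)
  invFun := toADual hn
  left_inv φ := LinearMap.ext fun x => by
    rw [toADual_apply]
    conv_rhs => rw [eq_sum_top R n hn (φ x)]
    exact Finset.sum_congr rfl fun i _ => by
      simp only [LinearMap.comp_apply, LinearMap.restrictScalars_apply, map_smul, smul_eq_mul]
  right_inv ψ := LinearMap.ext fun x => top_toADual hn ψ x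

theorem adual_ext (hn : 1 ≤ n) {φ φ' : M →ₗ[Rn R n] Rn R n} (h : ∀ x, top R n (φ x) = top R n (φ' x)) : φ = φ' :=
  (dualEquiv hn).injective (LinearMap.ext h)

end Modules

section Finite

variable {R n}

theorem finite_Rn : Module.Finite R (Rn R n) := by
  classical
  refine ⟨⟨(Finset.range n).image fun i => z R n ^ i, ?_⟩⟩
  refine eq_top_iff.2 fun a _ => ?_
  rcases Nat.eq_zero_or_pos n with rfl | hn
  · have : (1 : Rn R 0) = 0 := by simpa using z_pow_eq_zero R 0 (le_refl 0)
    rw [← mul_one a, this, mul_zero]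
    exact zero_mem _
  · rw [eq_sum_top R n hn a]
    exact Submodule.sum_mem _ fun i hi => Submodule.smul_mem _ _ (Submodule.subset_span (by
      simp only [Finset.coe_image, Set.mem_image, Finset.mem_coe, Finset.mem_range] at *
      exact ⟨n - 1 - i, by omega, rfl⟩))

theorem finite_R {M : Type*} [AddCommGroup M] [Module (Rn R n) M] [Module R M] [IsScalarTower R (Rn R n) M]
    [Module.Finite (Rn R n) M] : Module.Finite R M :=
  have := finite_Rn (R := R) (n := n)
  Module.Finite.trans (Rn R n) M

theorem isTorsionFree_Rn [IsDomain R] : Module.IsTorsionFree R (Rn R n) := by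
  rcases Nat.eq_zero_or_pos n with rfl | hn
  · have : Subsingleton (Rn R 0) :=
      subsingleton_of_zero_eq_one (by simpa using (z_pow_eq_zero R 0 (le_refl 0)).symm)
    exact Module.IsTorsionFree.of_smul_eq_zero fun r x _ => Or.inr (Subsingleton.elim _ _)
  · refine Module.IsTorsionFree.of_smul_eq_zero fun r x h => ?_
    by_cases hr : r = 0
    · exact Or.inl hr
    · refine Or.inr ?_
      rw [eq_sum_top R n hn x]
      refine Finset.sum_eq_zero fun i _ => ?_
      have h1 : top R n (z R n ^ i * (r • x)) = 0 := by rw [h, mul_zero, map_zero]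
      rw [mul_smul_comm, map_smul, smul_eq_mul, mul_eq_zero] at h1
      rw [h1.resolve_left hr, zero_smul]

theorem forms_extend [IsDomain R] [IsPrincipalIdealRing R] (hn : 1 ≤ n) {M : Type*} [AddCommGroup M] [Module (Rn R n) M] [Module R M]
    [IsScalarTower R (Rn R n) M] [Module.Finite (Rn R n) M] (K : Submodule (Rn R n) M)
    [Module.IsTorsionFree R (M ⧸ K)] (φ : K →ₗ[Rn R n] Rn R n) :
    ∃ φ' : M →ₗ[Rn R n] Rn R n, φ'.comp K.subtype = φ := by
  have := finite_R (R := R) (n := n) (M := M ⧸ K)
  have : Module.Free R (M ⧸ K) := inferInstance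
  obtain ⟨s, hs⟩ := Module.projective_lifting_property (K.mkQ.restrictScalars R) (LinearMap.id (R := R) (M := M ⧸ K))
    K.mkQ_surjective
  let r : M →ₗ[R] K :=
    { toFun := fun x => ⟨x - s (K.mkQ x), by
        rw [← Submodule.Quotient.mk_eq_zero]
        show K.mkQ _ = 0
        rw [map_sub, sub_eq_zero]
        exact (LinearMap.congr_fun hs (K.mkQ x)).symm⟩
      map_add' := fun x y => Subtype.ext (by simp only [map_add, Submodule.coe_add]; abel)
      map_smul' := fun a x => Subtype.ext (by
        show a • x - s (K.mkQ (a • x)) = a • (x - s (K.mkQ x))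
        rw [show K.mkQ (a • x) = a • K.mkQ x from rfl, map_smul, smul_sub]) }
  refine ⟨toADual hn (((top R n).comp (φ.restrictScalars R)).comp r), adual_ext hn fun x => ?_⟩
  rw [LinearMap.comp_apply, top_toADual hn, LinearMap.comp_apply, LinearMap.comp_apply, LinearMap.restrictScalars_apply]
  congr 1
  congr 1
  refine Subtype.ext ?_
  show (x : M) - s (K.mkQ (x : M)) = x
  rw [show K.mkQ (x : M) = 0 from (Submodule.Quotient.mk_eq_zero _).2 x.2, map_zero, sub_zero]

theorem exists_factor_z_pow [IsDomain R] [IsPrincipalIdealRing R] (hn : 1 ≤ n) {M : Type*} [AddCommGroup M] [Module (Rn R n) M] [Module R M]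
    [IsScalarTower R (Rn R n) M] [Module.Finite (Rn R n) M] [Module.IsTorsionFree R M] :
    ∃ (k : ℕ) (α : M →ₗ[Rn R n] (Fin k → Rn R n)) (β : (Fin k → Rn R n) →ₗ[Rn R n] M),
      ∀ x, β (α x) = z R n ^ (n - 1) • x := by
  let K : Submodule R M := (filt2 R n M 1).restrictScalars R
  have hKm : ∀ {x : M}, x ∈ K ↔ z R n • x = 0 := fun {x} => by
    simp [K, filt2, Submodule.mem_torsionBy_iff]
  have hquot : Module.IsTorsionFree R (M ⧸ K) := by
    refine Module.IsTorsionFree.of_smul_eq_zero fun r q => ?_
    obtain ⟨x, rfl⟩ := Submodule.mkQ_surjective _ q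
    intro h
    by_cases hr : r = 0
    · exact Or.inl hr
    · refine Or.inr ?_
      rw [← map_smul, Submodule.mkQ_apply, Submodule.Quotient.mk_eq_zero, hKm, smul_comm] at h
      rw [Submodule.mkQ_apply, Submodule.Quotient.mk_eq_zero, hKm]
      exact (smul_eq_zero.1 h).resolve_left hr
  have := finite_R (R := R) (n := n) (M := M)
  have : Module.Free R (M ⧸ K) := inferInstance
  have : Module.Finite R K := Module.Finite.iff_fg.2 (IsNoetherian.noetherian K)
  obtain ⟨s, hs⟩ := Module.projective_lifting_property K.mkQ (LinearMap.id (R := R) (M := M ⧸ K)) K.mkQ_surjective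
  let f : M →ₗ[R] K := (LinearMap.id - s.comp K.mkQ).codRestrict K fun x => by
    rw [← Submodule.Quotient.mk_eq_zero]
    show K.mkQ _ = 0
    simp only [LinearMap.sub_apply, LinearMap.id_apply, LinearMap.comp_apply, map_sub, sub_eq_zero]
    exact (LinearMap.congr_fun hs (K.mkQ x)).symm
  let b := Module.finBasis R K
  refine ⟨_, LinearMap.pi fun j => toADual hn ((b.coord j).comp f),
    Fintype.linearCombination (Rn R n) fun j => (b j : M), fun x => ?_⟩
  simp only [Fintype.linearCombination_apply, LinearMap.pi_apply, toADual_apply, Finset.sum_smul, LinearMap.comp_apply]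
  rw [Finset.sum_comm, Finset.sum_eq_single (n - 1)]
  · have hx : z R n ^ (n - 1) • x ∈ K := by
      rw [hKm, smul_smul, ← pow_succ']
      exact z_pow_smul_eq_zero (by omega) x
    simp only [Nat.sub_self, pow_zero, smul_assoc, one_smul]
    have hf : f (z R n ^ (n - 1) • x) = ⟨_, hx⟩ := Subtype.ext (by
      simp only [f, LinearMap.codRestrict_apply, LinearMap.sub_apply, LinearMap.id_apply, LinearMap.comp_apply]
      rw [show K.mkQ (z R n ^ (n - 1) • x) = 0 from (Submodule.Quotient.mk_eq_zero _).2 hx, map_zero, sub_zero])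
    have := congrArg (fun y : K => (y : M)) (b.sum_repr (f (z R n ^ (n - 1) • x)))
    simp only [Submodule.coe_sum, Submodule.coe_smul, hf] at this
    simpa [hf] using this
  · intro i hi hne
    refine Finset.sum_eq_zero fun j _ => ?_
    simp only [Finset.mem_range] at hi
    rw [smul_assoc, show n - 1 - i = (n - 2 - i) + 1 by omega, pow_succ, mul_smul, hKm.1 (b j).2, smul_zero, smul_zero]
  · intro h; simp only [Finset.mem_range] at h; omega

end Finite

end Groth.Agent.MultCrvLib
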