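import Groth.Agent.MultCrvLib.Basic
import Mathlib.Algebra.Category.ModuleCat.Ext.HasExt
import Mathlib.Algebra.Category.ModuleCat.Projective
import Mathlib.Algebra.Homology.DerivedCategory.Ext.ExactSequences
import Mathlib.Algebra.Homology.DerivedCategory.Ext.EnoughProjectives
import Mathlib.Algebra.Homology.DerivedCategory.Ext.Linear
import Mathlib.Algebra.Homology.ShortComplex.ModuleCat

/-! `Ext` computations over `R[X]/(X^n)`. -/

universe u

namespace Groth.Agent.MultCrvLib

open CategoryTheory MultCrv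

section General

variable {A : Type u} [CommRing A] {M : Type u} [AddCommGroup M] [Module A M]

/-- The short exact sequence of a finite free cover. -/
noncomputable abbrev coverComplex {k : ℕ} (π : (Fin k → A) →ₗ[A] M) : ShortComplex (ModuleCat.{u} A) :=
  π.shortComplexKer

theorem cover_shortExact {k : ℕ} {π : (Fin k → A) →ₗ[A] M} (hπ : Function.Surjective π) :
    (coverComplex π).ShortExact :=
  π.shortExact_shortComplexKer hπ

theorem projective_pi (k : ℕ) : Projective (ModuleCat.of A (Fin k → A)) :=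
  (IsProjective.iff_projective (R := A) (Fin k → A)).1 inferInstance

theorem ext_one_subsingleton {k : ℕ} {π : (Fin k → A) →ₗ[A] M} (hπ : Function.Surjective π) (N : Type u) [AddCommGroup N]
    [Module A N] (hext : ∀ φ : ↥(LinearMap.ker π) →ₗ[A] N, ∃ φ' : (Fin k → A) →ₗ[A] N, φ'.comp (LinearMap.ker π).subtype = φ) :
    Subsingleton (Abelian.Ext (ModuleCat.of A M) (ModuleCat.of A N) 1) := by
  refine ⟨fun a b => ?_⟩
  suffices h : ∀ x : Abelian.Ext (ModuleCat.of A M) (ModuleCat.of A N) 1, x = 0 by rw [h a, h b]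
  intro x
  have := projective_pi (A := A) k
  obtain ⟨x₁, rfl⟩ := Abelian.Ext.contravariant_sequence_exact₃ (cover_shortExact hπ) (ModuleCat.of A N) x
    (Abelian.Ext.eq_zero_of_projective (P := ModuleCat.of A (Fin k → A)) _) (n₀ := 0) rfl
  obtain ⟨g, rfl⟩ := Abelian.Ext.addEquiv₀.symm.surjective x₁
  obtain ⟨φ', hφ'⟩ := hext g.hom
  have hg : g = (coverComplex π).f ≫ ModuleCat.ofHom φ' := ModuleCat.hom_ext hφ'.symm
  rw [hg, Abelian.Ext.addEquiv₀_symm_apply, ← Abelian.Ext.mk₀_comp_mk₀]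
  exact (cover_shortExact hπ).extClass_comp_assoc _

theorem extend_of_ext_one {k : ℕ} {π : (Fin k → A) →ₗ[A] M} (hπ : Function.Surjective π) (N : Type u) [AddCommGroup N]
    [Module A N] (h : Subsingleton (Abelian.Ext (ModuleCat.of A M) (ModuleCat.of A N) 1))
    (φ : ↥(LinearMap.ker π) →ₗ[A] N) : ∃ φ' : (Fin k → A) →ₗ[A] N, φ'.comp (LinearMap.ker π).subtype = φ := by
  obtain ⟨x₂, hx⟩ := Abelian.Ext.contravariant_sequence_exact₁ (cover_shortExact hπ) (ModuleCat.of A N)
    (Abelian.Ext.mk₀ (ModuleCat.ofHom φ : (coverComplex π).X₁ ⟶ ModuleCat.of A N)) (n₁ := 1) rfl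
    (Subsingleton.elim (α := Abelian.Ext (ModuleCat.of A M) (ModuleCat.of A N) 1) _ _)
  obtain ⟨g, rfl⟩ := Abelian.Ext.addEquiv₀.symm.surjective x₂
  rw [Abelian.Ext.addEquiv₀_symm_apply, Abelian.Ext.mk₀_comp_mk₀] at hx
  exact ⟨g.hom, congrArg ModuleCat.Hom.hom (Abelian.Ext.addEquiv₀.symm.injective hx)⟩

theorem ext_succ_eq {k : ℕ} {π : (Fin k → A) →ₗ[A] M} (hπ : Function.Surjective π) (N : Type u) [AddCommGroup N]
    [Module A N] (i : ℕ) (x : Abelian.Ext (ModuleCat.of A M) (ModuleCat.of A N) (i + 1)) :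
    ∃ x₁ : Abelian.Ext (ModuleCat.of A ↥(LinearMap.ker π)) (ModuleCat.of A N) i,
      x = (cover_shortExact hπ).extClass.comp x₁ (add_comm 1 i) := by
  have := projective_pi (A := A) k
  obtain ⟨x₁, rfl⟩ := Abelian.Ext.contravariant_sequence_exact₃ (cover_shortExact hπ) (ModuleCat.of A N) x
    (Abelian.Ext.eq_zero_of_projective (P := ModuleCat.of A (Fin k → A)) _) (n₀ := i) (add_comm 1 i)
  exact ⟨x₁, rfl⟩

end General

variable {R : Type u} [CommRing R] [IsDomain R] {n : ℕ}

theorem isTorsionFree_pi (k : ℕ) : Module.IsTorsionFree R (Fin k → Rn R n) :=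
  have := isTorsionFree_Rn (R := R) (n := n)
  inferInstance

omit [IsDomain R] in
theorem isTorsionFree_sub {P : Type*} [AddCommGroup P] [Module (Rn R n) P] [Module R P] [IsScalarTower R (Rn R n) P]
    [Module.IsTorsionFree R P] (K : Submodule (Rn R n) P) : Module.IsTorsionFree R K :=
  Function.Injective.moduleIsTorsionFree Subtype.val Subtype.val_injective fun _ _ => rfl

variable [IsPrincipalIdealRing R]

theorem ext_self_subsingleton (hn : 1 ≤ n) (i : ℕ) : ∀ (M : Type u) [AddCommGroup M] [Module (Rn R n) M] [Module R M]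
    [IsScalarTower R (Rn R n) M] [Module.Finite (Rn R n) M] [Module.IsTorsionFree R M],
    Subsingleton (Abelian.Ext (ModuleCat.of (Rn R n) M) (ModuleCat.of (Rn R n) (Rn R n)) (i + 1)) := by
  induction i with
  | zero =>
    intro M _ _ _ _ _ _
    obtain ⟨k, π, hπ⟩ := Module.Finite.exists_fin' (Rn R n) M
    refine ext_one_subsingleton hπ (Rn R n) fun φ => ?_
    let e := π.quotKerEquivOfSurjective hπ
    have : Module.IsTorsionFree R ((Fin k → Rn R n) ⧸ LinearMap.ker π) :=
      Function.Injective.moduleIsTorsionFree e e.injective fun r x => LinearMap.map_smul_of_tower e.toLinearMap r x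
    exact forms_extend hn (LinearMap.ker π) φ
  | succ i ih =>
    intro M _ _ _ _ _ _
    obtain ⟨k, π, hπ⟩ := Module.Finite.exists_fin' (Rn R n) M
    refine ⟨fun a b => ?_⟩
    have := isTorsionFree_pi (R := R) (n := n) k
    have := isTorsionFree_sub (R := R) (LinearMap.ker π)
    have : Module.Finite (Rn R n) ↥(LinearMap.ker π) := Module.Finite.iff_fg.2 (IsNoetherian.noetherian _)
    have := ih ↥(LinearMap.ker π)
    obtain ⟨a₁, rfl⟩ := ext_succ_eq hπ _ (i + 1) a
    obtain ⟨b₁, rfl⟩ := ext_succ_eq hπ _ (i + 1) b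
    rw [Subsingleton.elim a₁ b₁]

theorem ext_self_subsingleton_succ_succ (hn : 1 ≤ n) (i : ℕ) (M : Type u) [AddCommGroup M] [Module (Rn R n) M]
    [Module.Finite (Rn R n) M] :
    Subsingleton (Abelian.Ext (ModuleCat.of (Rn R n) M) (ModuleCat.of (Rn R n) (Rn R n)) (i + 2)) := by
  obtain ⟨k, π, hπ⟩ := Module.Finite.exists_fin' (Rn R n) M
  refine ⟨fun a b => ?_⟩
  have := isTorsionFree_pi (R := R) (n := n) k
  have := isTorsionFree_sub (R := R) (LinearMap.ker π)
  have : Module.Finite (Rn R n) ↥(LinearMap.ker π) := Module.Finite.iff_fg.2 (IsNoetherian.noetherian _)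
  have := ext_self_subsingleton (R := R) hn i ↥(LinearMap.ker π)
  obtain ⟨a₁, rfl⟩ := ext_succ_eq hπ _ (i + 1) a
  obtain ⟨b₁, rfl⟩ := ext_succ_eq hπ _ (i + 1) b
  rw [Subsingleton.elim a₁ b₁]

theorem smul_ext_eq_zero (hn : 1 ≤ n) (M : Type u) [AddCommGroup M] [Module (Rn R n) M] [Module R M]
    [IsScalarTower R (Rn R n) M] [Module.Finite (Rn R n) M] [Module.IsTorsionFree R M] (N : Type u) [AddCommGroup N]
    [Module (Rn R n) N] (i : ℕ) (x : Abelian.Ext (ModuleCat.of (Rn R n) M) (ModuleCat.of (Rn R n) N) (i + 1)) :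
    (z R n ^ (n - 1)) • x = 0 := by
  obtain ⟨k, α, β, hαβ⟩ := exists_factor_z_pow (R := R) (M := M) hn
  have hfac : (z R n ^ (n - 1)) • 𝟙 (ModuleCat.of (Rn R n) M) = ModuleCat.ofHom α ≫ ModuleCat.ofHom β :=
    ModuleCat.hom_ext (LinearMap.ext fun m => (hαβ m).symm)
  conv_lhs => rw [← Abelian.Ext.mk₀_id_comp x]
  rw [← Abelian.Ext.smul_comp, ← Abelian.Ext.mk₀_smul, hfac, ← Abelian.Ext.mk₀_comp_mk₀_assoc]
  have := projective_pi (A := Rn R n) k
  rw [Abelian.Ext.eq_zero_of_projective ((Abelian.Ext.mk₀ (ModuleCat.ofHom β)).comp x (zero_add (i + 1))),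
    Abelian.Ext.comp_zero]

theorem smul_ext_eq_zero' (hn : 1 ≤ n) (M : Type u) [AddCommGroup M] [Module (Rn R n) M]
    [Module.Finite (Rn R n) M] (N : Type u) [AddCommGroup N]
    [Module (Rn R n) N] (i : ℕ) (x : Abelian.Ext (ModuleCat.of (Rn R n) M) (ModuleCat.of (Rn R n) N) (i + 2)) :
    (z R n ^ (n - 1)) • x = 0 := by
  obtain ⟨k, π, hπ⟩ := Module.Finite.exists_fin' (Rn R n) M
  have := isTorsionFree_pi (R := R) (n := n) k
  have := isTorsionFree_sub (R := R) (LinearMap.ker π)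
  have : Module.Finite (Rn R n) ↥(LinearMap.ker π) := Module.Finite.iff_fg.2 (IsNoetherian.noetherian _)
  obtain ⟨x₁, rfl⟩ := ext_succ_eq hπ _ (i + 1) x
  rw [← Abelian.Ext.comp_smul, smul_ext_eq_zero (R := R) hn ↥(LinearMap.ker π) N i x₁, Abelian.Ext.comp_zero]

theorem isTorsionFree_of_ext_one (hn : 1 ≤ n) (M : Type u) [AddCommGroup M] [Module (Rn R n) M] [Module R M]
    [IsScalarTower R (Rn R n) M] [Module.Finite (Rn R n) M]
    (h : Subsingleton (Abelian.Ext (ModuleCat.of (Rn R n) M) (ModuleCat.of (Rn R n) (Rn R n)) 1)) :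
    Module.IsTorsionFree R M := by
  obtain ⟨k, π, hπ⟩ := Module.Finite.exists_fin' (Rn R n) M
  have := isTorsionFree_pi (R := R) (n := n) k
  have := isTorsionFree_sub (R := R) (LinearMap.ker π)
  have : Module.Finite (Rn R n) ↥(LinearMap.ker π) := Module.Finite.iff_fg.2 (IsNoetherian.noetherian _)
  have : Module.Finite R ↥(LinearMap.ker π) := finite_R (n := n)
  let b := Module.finBasis R ↥(LinearMap.ker π)
  choose ext hext using fun φ => extend_of_ext_one hπ (Rn R n) h φ
  let ρ : (Fin k → Rn R n) →ₗ[R] ↥(LinearMap.ker π) :=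
    ∑ j, ((top R n).comp ((ext (toADual hn (b.coord j))).restrictScalars R)).smulRight (b j)
  have hρ : ∀ x : ↥(LinearMap.ker π), ρ x = x := by
    intro x
    conv_rhs => rw [← b.sum_repr x]
    simp only [ρ, LinearMap.coe_sum, Finset.sum_apply, LinearMap.smulRight_apply, LinearMap.comp_apply,
      LinearMap.restrictScalars_apply]
    refine Finset.sum_congr rfl fun j _ => ?_
    congr 1
    rw [show ext (toADual hn (b.coord j)) (x : Fin k → Rn R n) = toADual hn (b.coord j) x from LinearMap.congr_fun (hext _) x,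
      top_toADual]
    rfl
  refine Module.IsTorsionFree.of_smul_eq_zero fun r m hm => ?_
  by_cases hr : r = 0
  · exact Or.inl hr
  refine Or.inr ?_
  obtain ⟨y, rfl⟩ := hπ m
  rw [← LinearMap.map_smul_of_tower, ← LinearMap.mem_ker] at hm
  have h2 : r • y = r • (ρ y : Fin k → Rn R n) := by
    have := congrArg Subtype.val (hρ ⟨r • y, hm⟩)
    rw [← Submodule.coe_smul_of_tower, ← map_smul]
    exact this.symm
  have h3 : y = (ρ y : Fin k → Rn R n) := smul_right_injective _ hr h2
  rw [h3]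
  exact LinearMap.mem_ker.1 (ρ y).2

end Groth.Agent.MultCrvLib
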